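import Groth.Agent.Lib.FlatFP.TorShift
import Groth.Agent.Lib.TorFactor.Basic
import Mathlib.Algebra.Homology.DerivedCategory.Ext.ExtClass
import Mathlib.Algebra.Homology.DerivedCategory.Ext.EnoughProjectives
import Mathlib.Algebra.Homology.HomologySequenceLemmas
import Mathlib.Algebra.Category.ModuleCat.EnoughInjectives
import Mathlib.Algebra.Category.ModuleCat.Ext.HasExt

/-!
# A map kills `Ext^{e+1}` iff it kills `Tor_{e+1}`
-/

set_option autoImplicit false
universe u

open CategoryTheory CategoryTheory.Limits CategoryTheory.Abelian TensorProduct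

namespace GrothLib.ExtTorMap

open GrothLib.FlatFP

variable {R : Type u} [CommRing R]

/-- `α` kills `Ext^n`. -/
def ExtZero {M M' : ModuleCat.{u} R} (α : M ⟶ M') (n : ℕ) : Prop :=
  ∀ (N : ModuleCat.{u} R) (x : Ext M' N n), (Ext.mk₀ α).comp x (zero_add n) = 0

/-- `α` kills `Tor_n`. -/
def TorZero {M M' : ModuleCat.{u} R} (α : M ⟶ M') (n : ℕ) : Prop :=
  ∀ N : ModuleCat.{u} R, HomologicalComplex.homologyMap (torCxMap α N) n = 0

theorem torCxMap_comp {X Y Z : ModuleCat.{u} R} (f : X ⟶ Y) (g : Y ⟶ Z) (N : ModuleCat.{u} R) :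
    torCxMap (f ≫ g) N = torCxMap f N ≫ torCxMap g N := by
  apply HomologicalComplex.hom_ext
  intro i
  apply ModuleCat.hom_ext
  refine TensorProduct.ext' fun x y => ?_
  rfl

variable {S S' : ShortComplex (ModuleCat.{u} R)} (hS : S.ShortExact) (hS' : S'.ShortExact) (φ : S ⟶ S')
  [Projective S.X₂] [Projective S'.X₂]

include hS hS' in
theorem extZero_shift (n : ℕ) : ExtZero φ.τ₃ (n + 2) ↔ ExtZero φ.τ₁ (n + 1) := by
  have key : ∀ (N : ModuleCat.{u} R) (y : Ext S'.X₁ N (n + 1)),
      (Ext.mk₀ φ.τ₃).comp (hS'.extClass.comp y (Nat.add_comm 1 (n + 1))) (zero_add (n + 2)) =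
        hS.extClass.comp ((Ext.mk₀ φ.τ₁).comp y (zero_add _)) (Nat.add_comm 1 (n + 1)) := fun N y => by
    rw [← Ext.comp_assoc _ _ y (zero_add 1) (Nat.add_comm 1 (n + 1)) (by omega),
      ← ShortComplex.ShortExact.extClass_naturality hS hS' φ,
      Ext.comp_assoc _ _ y (add_zero 1) (zero_add (n + 1)) (by omega)]
  constructor
  · intro h N y
    obtain ⟨z, hz⟩ := Ext.contravariant_sequence_exact₁ hS N _ (Nat.add_comm 1 (n + 1))
      ((key N y).symm.trans (h N _))
    rw [← hz, Ext.eq_zero_of_projective z, Ext.comp_zero]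
  · intro h N x
    obtain ⟨y, rfl⟩ := Ext.contravariant_sequence_exact₃ hS' N x (Ext.eq_zero_of_projective _)
      (Nat.add_comm 1 (n + 1))
    rw [key, h, Ext.comp_zero]

include hS hS' in
theorem torZero_shift (n : ℕ) [Module.Flat R S.X₂] [Module.Flat R S'.X₂] :
    TorZero φ.τ₃ (n + 2) ↔ TorZero φ.τ₁ (n + 1) := by
  refine forall_congr' fun N => ?_
  let ψ : torSeq S N ⟶ torSeq S' N := ShortComplex.homMk (torCxMap φ.τ₁ N) (torCxMap φ.τ₂ N) (torCxMap φ.τ₃ N)
    ((torCxMap_comp _ _ N).symm.trans ((congrArg (fun f => torCxMap f N) φ.comm₁₂).trans (torCxMap_comp _ _ N)))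
    ((torCxMap_comp _ _ N).symm.trans ((congrArg (fun f => torCxMap f N) φ.comm₂₃).trans (torCxMap_comp _ _ N)))
  have h1 := torSeq_shortExact S hS N
  have h2 := torSeq_shortExact S' hS' N
  haveI : IsIso (h1.δ (n + 2) (n + 1) (by simp)) := h1.isIso_δ _ _ _
    (isZero_torCx_homology_of_flat S.X₂ N (n + 1)) (isZero_torCx_homology_of_flat S.X₂ N n)
  haveI : IsIso (h2.δ (n + 2) (n + 1) (by simp)) := h2.isIso_δ _ _ _
    (isZero_torCx_homology_of_flat S'.X₂ N (n + 1)) (isZero_torCx_homology_of_flat S'.X₂ N n)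
  have nat : h1.δ (n + 2) (n + 1) (by simp) ≫ HomologicalComplex.homologyMap (torCxMap φ.τ₁ N) (n + 1) =
      HomologicalComplex.homologyMap (torCxMap φ.τ₃ N) (n + 2) ≫ h2.δ (n + 2) (n + 1) (by simp) :=
    HomologicalComplex.HomologySequence.δ_naturality ψ h1 h2 (n + 2) (n + 1) (by simp)
  constructor
  · intro h
    have hn : HomologicalComplex.homologyMap ψ.τ₃ (n + 2) = 0 := h
    have nat' := (HomologicalComplex.HomologySequence.δ_naturality ψ h1 h2 (n + 2) (n + 1) (by simp))
    rw [hn, zero_comp] at nat'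
    exact (cancel_epi (h1.δ (n + 2) (n + 1) (by simp))).1 (nat'.trans comp_zero.symm)
  · intro h
    have hn : HomologicalComplex.homologyMap ψ.τ₁ (n + 1) = 0 := h
    have nat' := (HomologicalComplex.HomologySequence.δ_naturality ψ h1 h2 (n + 2) (n + 1) (by simp))
    rw [hn, comp_zero] at nat'
    exact (cancel_mono (h2.δ (n + 2) (n + 1) (by simp))).1 (nat'.symm.trans zero_comp.symm)

omit S S' in
/-- The statement's `Tor` map is the map on homology. -/
theorem tor_app_eq_zero_iff {M M' : ModuleCat.{u} R} (α : M ⟶ M') (N : ModuleCat.{u} R) (n : ℕ) :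
    ((Tor (ModuleCat.{u} R) n).map α).app N = 0 ↔ HomologicalComplex.homologyMap (torCxMap α N) n = 0 := by
  have e : ((Tor (ModuleCat.{u} R) n).map α).app N =
      ((projectiveResolution N).isoLeftDerivedObj (tensorL M) n).hom ≫
        HomologicalComplex.homologyMap (torCxMap α N) n ≫
          ((projectiveResolution N).isoLeftDerivedObj (tensorL M') n).inv :=
    ProjectiveResolution.leftDerived_app_eq ((MonoidalCategory.tensoringLeft (ModuleCat.{u} R)).map α)
      (projectiveResolution N) n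
  refine ⟨fun h => ?_, fun h => e.trans ?_⟩
  · exact (cancel_mono ((projectiveResolution N).isoLeftDerivedObj (tensorL M') n).inv).1
      (((cancel_epi ((projectiveResolution N).isoLeftDerivedObj (tensorL M) n).hom).1
        ((e.symm.trans h).trans comp_zero.symm)).trans zero_comp.symm)
  · exact (congrArg (_ ≫ ·) ((congrArg (· ≫ _) h).trans zero_comp)).trans comp_zero

omit S S' in
/-- The cover of a module by a free module. -/
noncomputable def cover {F M : Type u} [AddCommGroup F] [Module R F] [AddCommGroup M] [Module R M]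
    (g : F →ₗ[R] M) : ShortComplex (ModuleCat.{u} R) :=
  ShortComplex.mk (ModuleCat.ofHom (LinearMap.ker g).subtype) (ModuleCat.ofHom g)
    (ModuleCat.hom_ext (LinearMap.ext fun x => x.2))

omit S S' in
theorem cover_shortExact {F M : Type u} [AddCommGroup F] [Module R F] [AddCommGroup M] [Module R M]
    (g : F →ₗ[R] M) (hg : Function.Surjective g) : (cover g).ShortExact :=
  { exact := (ShortComplex.moduleCat_exact_iff _).2 fun x hx => ⟨⟨x, hx⟩, rfl⟩
    mono_f := (ModuleCat.mono_iff_injective _).2 Subtype.val_injective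
    epi_g := (ModuleCat.epi_iff_surjective _).2 hg }

omit S S' in
theorem cover_projective {F M : Type u} [AddCommGroup F] [Module R F] [AddCommGroup M] [Module R M]
    [hF : Module.Projective R F] (g : F →ₗ[R] M) : Projective (cover g).X₂ :=
  (IsProjective.iff_projective F).1 hF

omit S S' in
theorem cover_flat {F M : Type u} [AddCommGroup F] [Module R F] [AddCommGroup M] [Module R M]
    [hF : Module.Flat R F] (g : F →ₗ[R] M) : Module.Flat R (cover g).X₂ :=
  hF

omit S S' in
/-- The tautological free cover. -/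
theorem free_cover_surjective (M : Type u) [AddCommGroup M] [Module R M] :
    Function.Surjective (Finsupp.linearCombination R (id : M → M)) :=
  fun x => ⟨Finsupp.single x 1, by simp⟩

omit S S' in
/-- One step of the induction. -/
theorem shift_iff {F F' M M' : Type u} [AddCommGroup F] [Module R F] [Module.Projective R F] [AddCommGroup F']
    [Module R F'] [Module.Projective R F'] [AddCommGroup M] [Module R M] [AddCommGroup M'] [Module R M']
    (g : F →ₗ[R] M) (hg : Function.Surjective g) (π : F' →ₗ[R] M') (hπ : Function.Surjective π)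
    (α : M →ₗ[R] M') (β : F →ₗ[R] F') (hβ : π ∘ₗ β = α ∘ₗ g)
    (β' : LinearMap.ker g →ₗ[R] LinearMap.ker π) (hβ' : ∀ x, (β' x : F') = β x) (n : ℕ) :
    (ExtZero (ModuleCat.ofHom α) (n + 2) ↔ ExtZero (ModuleCat.ofHom β') (n + 1)) ∧
      (TorZero (ModuleCat.ofHom α) (n + 2) ↔ TorZero (ModuleCat.ofHom β') (n + 1)) := by
  let φ : cover g ⟶ cover π := ShortComplex.homMk (ModuleCat.ofHom β') (ModuleCat.ofHom β) (ModuleCat.ofHom α)
    (ModuleCat.hom_ext (LinearMap.ext hβ')) (ModuleCat.hom_ext hβ)
  haveI := cover_projective g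
  haveI := cover_projective π
  haveI := cover_flat g
  haveI := cover_flat π
  exact ⟨extZero_shift (cover_shortExact g hg) (cover_shortExact π hπ) φ n,
    torZero_shift (cover_shortExact g hg) (cover_shortExact π hπ) φ n⟩

variable [IsNoetherianRing R]

omit S S' in
theorem extZero_iff_torZero : ∀ (e : ℕ) (M M' : Type u) [AddCommGroup M] [Module R M] [Module.Finite R M]
    [AddCommGroup M'] [Module R M'] (α : M →ₗ[R] M'),
    ExtZero (ModuleCat.ofHom α) (e + 1) ↔ TorZero (ModuleCat.ofHom α) (e + 1) := by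
  intro e
  induction e with
  | zero =>
    intro M M' _ _ _ _ _ α
    let π := Finsupp.linearCombination R (id : M' → M')
    have hfree : ∀ {ι : Type u} (g : M →ₗ[R] (ι →₀ R)) (h : (ι →₀ R) →ₗ[R] M') (_ : α = h ∘ₗ g),
        ExtZero (ModuleCat.ofHom α) 1 ∧ TorZero (ModuleCat.ofHom α) 1 := by
      intro ι g h hα
      subst hα
      rw [ModuleCat.ofHom_comp]
      haveI : Projective (ModuleCat.of R (ι →₀ R)) :=
        (IsProjective.iff_projective _).1 (inferInstanceAs (Module.Projective R (ι →₀ R)))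
      refine ⟨fun N x => ?_, fun N => ?_⟩
      · rw [← Ext.mk₀_comp_mk₀, Ext.comp_assoc_of_second_deg_zero,
          Ext.eq_zero_of_projective ((Ext.mk₀ (ModuleCat.ofHom h)).comp x (zero_add 1)), Ext.comp_zero]
      · haveI : Module.Flat R (ModuleCat.of R (ι →₀ R)) := inferInstanceAs (Module.Flat R (ι →₀ R))
        rw [torCxMap_comp, HomologicalComplex.homologyMap_comp,
          (isZero_torCx_homology_of_flat (ModuleCat.of R (ι →₀ R)) N 0).eq_of_tgt
            (HomologicalComplex.homologyMap (torCxMap (ModuleCat.ofHom g) N) 1) 0, zero_comp]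
    constructor
    · intro h
      obtain ⟨x₂, hx₂⟩ := Ext.covariant_sequence_exact₃ (ModuleCat.of R M)
        (cover_shortExact π (free_cover_surjective M')) (Ext.mk₀ (ModuleCat.ofHom α)) (zero_add 1) (h _ _)
      obtain ⟨g, rfl⟩ := (Ext.mk₀_bijective _ _).2 x₂
      rw [Ext.mk₀_comp_mk₀] at hx₂
      exact (hfree g.hom π (congrArg ModuleCat.Hom.hom ((Ext.mk₀_bijective _ _).1 hx₂)).symm).2
    · intro h
      haveI : Module.FinitePresentation R M := Module.finitePresentation_of_finite R M
      obtain ⟨ι, g, k, hk⟩ := GrothLib.TorFactor.factors_through_free α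
        (fun N _ _ => (tor_app_eq_zero_iff (ModuleCat.ofHom α) (ModuleCat.of R N) 1).2 (h _))
      exact (hfree g k hk).1
  | succ e ih =>
    intro M M' _ _ _ _ _ α
    obtain ⟨r, g, hg⟩ := Module.Finite.exists_fin' R M
    obtain ⟨π, hπ⟩ : ∃ π : (M' →₀ R) →ₗ[R] M', Function.Surjective π := ⟨_, free_cover_surjective M'⟩
    obtain ⟨β, hβ⟩ := Module.projective_lifting_property π (α ∘ₗ g) hπ
    have hβ0 : ∀ x ∈ LinearMap.ker g, β x ∈ LinearMap.ker π := fun x hx =>
      (DFunLike.congr_fun hβ x).trans ((congrArg α hx).trans (map_zero α))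
    obtain ⟨h1, h2⟩ := shift_iff g hg π hπ α β hβ (β.restrict hβ0) (fun _ => rfl) e
    have h3 := ih (LinearMap.ker g) (LinearMap.ker π) (β.restrict hβ0)
    exact h1.trans (h3.trans h2.symm)

end GrothLib.ExtTorMap
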